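/-
A fixed-point-free element of order 3 of the group of the code, its lift to the lattice and the
certificates for its fixed classes and centraliser.
-/
import Cfsg.Agent.ThSect.Data
import Cfsg.Agent.Golay.InvCount
import Cfsg.Agent.Leech.Order
import Cfsg.Prelude.Def_MonsterType

set_option autoImplicit false
set_option linter.constructorNameAsVariable false
set_option maxRecDepth 100000

namespace CfsgLib.ThSect

open Cfsg CfsgLib.Golay CfsgLib.Leech CfsgLib.LeechFix CfsgLib.Golay.Cert

attribute [local irreducible] shortVecs halfTable quarterTable codeFinset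

theorem sig3_ok : genOK sig3 = true ∧ genOK inv3 = true ∧
    compL inv3 sig3 = compL (compL sig3 sig3) inv3 ∧
    compL sig3 (compL sig3 sig3) = List.range 24 ∧ sig3 ≠ List.range 24 ∧ fixSet sig3 = ∅ := by
  decide +kernel

/-- The element of order 3. -/
noncomputable def σ : M24 := (genOK_spec sig3_ok.1).choose

theorem toList_σ : toList (σ : Equiv.Perm GolayPt) = sig3 := (genOK_spec sig3_ok.1).choose_spec

/-- An element inverting it. -/
noncomputable def τ : M24 := (genOK_spec sig3_ok.2.1).choose

theorem toList_τ : toList (τ : Equiv.Perm GolayPt) = inv3 := (genOK_spec sig3_ok.2.1).choose_spec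

theorem tau_conj : τ * σ * τ⁻¹ = σ ^ 2 := by
  rw [mul_inv_eq_iff_eq_mul]
  refine toList_coe_injective ?_
  show toList ((τ * σ : M24) : Equiv.Perm GolayPt) = toList ((σ ^ 2 * τ : M24) : Equiv.Perm GolayPt)
  simp only [Subgroup.coe_mul, pow_two, toList_mul, toList_σ, toList_τ]
  exact sig3_ok.2.2.1

theorem orderOf_σ : orderOf σ = 3 := by
  have : Fact (Nat.Prime 3) := ⟨by norm_num⟩
  refine orderOf_eq_prime (toList_coe_injective ?_) fun e => ?_
  · show toList ((σ ^ 3 : M24) : Equiv.Perm GolayPt) = toList ((1 : M24) : Equiv.Perm GolayPt)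
    simp only [SubgroupClass.coe_pow, OneMemClass.coe_one, toList_one,
      show (σ : Equiv.Perm GolayPt) ^ 3 = σ * (σ * σ) by rw [pow_succ', pow_two],
      toList_mul, toList_σ]
    exact sig3_ok.2.2.2.1
  · have := congrArg (fun x : M24 => toList (x : Equiv.Perm GolayPt)) e
    simp only [toList_σ, OneMemClass.coe_one, toList_one] at this
    exact sig3_ok.2.2.2.2.1 this

/-- An element of order 3 without fixed points is conjugate to the chosen one. -/
theorem exists_conj_σ {x : M24} (hx : orderOf x = 3)
    (h0 : (fixedPts (x : Equiv.Perm GolayPt)).card = 0) : ∃ k : M24, k * x * k⁻¹ = σ := by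
  have hσ : (fixedPts (σ : Equiv.Perm GolayPt)).card = 0 := by
    have e : fixedPts (σ : Equiv.Perm GolayPt) = fixSet sig3 := by
      rw [fixedPts_eq, toList_σ]; rfl
    rw [e, sig3_ok.2.2.2.2.2, Finset.card_empty]
  obtain ⟨k, hk⟩ := three_cases hx
  obtain ⟨k', hk'⟩ := three_cases orderOf_σ
  rcases hk with ⟨-, hk⟩ | ⟨hk, -⟩
  · omega
  rcases hk' with ⟨-, hk'⟩ | ⟨hk', -⟩
  · omega
  exact ⟨_, conj_of_same (hk.trans hk'.symm)⟩

theorem syl3_ok : syl3.length = 27 ∧ syl3.Nodup ∧ syl3.all genOK = true ∧
    syl3.all (fun a => compL a rep3A == compL rep3A a &&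
      syl3.all fun b => syl3.contains (compL a b)) = true ∧ syl3.contains (List.range 24) = true := by
  decide +kernel

theorem rep3A_in_syl3 : syl3.contains rep3A = true := by decide +kernel

/-- An element of order 3 with fixed points is centralised by a group of order 27 containing it. -/
theorem exists_syl {x : M24} (hx : orderOf x = 3)
    (h0 : (fixedPts (x : Equiv.Perm GolayPt)).card ≠ 0) :
    ∃ P : Subgroup M24, Nat.card P = 27 ∧ ∀ p ∈ P, p * x = x * p := by
  obtain ⟨k, hk⟩ := three_cases hx
  rcases hk with ⟨hk, -⟩ | ⟨-, hk⟩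
  swap; · exact absurd hk h0
  obtain ⟨hlen, hnd, hok, hcl, hone⟩ := syl3_ok
  simp only [List.all_eq_true, Bool.and_eq_true, beq_iff_eq, List.contains_iff_mem] at hok hcl hone
  let M : Submonoid M24 :=
    { carrier := {g | toList (g : Equiv.Perm GolayPt) ∈ syl3}
      one_mem' := by
        show toList ((1 : M24) : Equiv.Perm GolayPt) ∈ syl3
        rw [OneMemClass.coe_one, toList_one]; exact hone
      mul_mem' := fun {a b} ha hb => by
        show toList ((a * b : M24) : Equiv.Perm GolayPt) ∈ syl3
        rw [Subgroup.coe_mul, toList_mul]; exact (hcl _ ha).2 _ hb }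
  let P₀ : Subgroup M24 :=
    { M with
      inv_mem' := fun {a} ha => by
        show a⁻¹ ∈ M
        have := pow_mem (show a ∈ M from ha) (orderOf a - 1)
        rwa [← inv_eq_of_mul_eq_one_left (show a ^ (orderOf a - 1) * a = 1 by
          rw [← pow_succ, Nat.sub_add_cancel (orderOf_pos a), pow_orderOf_eq_one])] at this }
  have hcard : Nat.card P₀ = 27 := by
    let F : P₀ → syl3.toFinset := fun g => ⟨toList (g : Equiv.Perm GolayPt), List.mem_toFinset.2 g.2⟩
    have hF : Function.Bijective F := by
      refine ⟨fun a b h => Subtype.ext (toList_coe_injective (congrArg Subtype.val h)), ?_⟩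
      rintro ⟨L, hL⟩
      rw [List.mem_toFinset] at hL
      obtain ⟨g, hg⟩ := genOK_spec (hok L hL)
      exact ⟨⟨g, show toList (g : Equiv.Perm GolayPt) ∈ syl3 from hg.symm ▸ hL⟩, Subtype.ext hg⟩
    rw [Nat.card_eq_of_bijective F hF, Nat.card_eq_finsetCard, List.toFinset_card_of_nodup hnd, hlen]
  refine ⟨P₀.map (MulAut.conj k⁻¹).toMonoidHom, ?_, ?_⟩
  · rw [Subgroup.card_map_of_injective (MulAut.conj k⁻¹).injective, hcard]
  rintro _ ⟨p, hp, rfl⟩
  have hc : p * (k * x * k⁻¹) = k * x * k⁻¹ * p := toList_coe_injective (by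
    show toList ((p * (k * x * k⁻¹) : M24) : Equiv.Perm GolayPt) =
      toList ((k * x * k⁻¹ * p : M24) : Equiv.Perm GolayPt)
    rw [Subgroup.coe_mul, Subgroup.coe_mul _ (k * x * k⁻¹) p, toList_mul, toList_mul, hk]
    exact (hcl _ hp).1)
  show k⁻¹ * p * k⁻¹⁻¹ * x = x * (k⁻¹ * p * k⁻¹⁻¹)
  calc k⁻¹ * p * k⁻¹⁻¹ * x = k⁻¹ * (p * (k * x * k⁻¹)) * k := by group
    _ = k⁻¹ * (k * x * k⁻¹ * p) * k := by rw [hc]
    _ = x * (k⁻¹ * p * k⁻¹⁻¹) := by group

theorem cent_fix_ok :
    cosets.length = 21 ∧ cosets.all genOK = true ∧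
    ((cosets.flatMap fun k => fiveList.map (compL k)).filter fun f =>
      compL f sig3 == compL sig3 f).length ≤ 21 ∧
    sig3.getD 23 0 = 0 ∧ sig3.getD 0 0 = 1 ∧ sig3.getD 2 0 = 3 ∧
    ((List.range 21).all fun q => agreeL q5 (cosets.getD q []) (cosets.getD q []) &&
      (cosets.getD q []).getD 23 0 == 23 && (cosets.getD q []).getD 0 0 == 0 &&
      (cosets.getD q []).getD 1 0 == 1 && (cosets.getD q []).getD 2 0 == q + 2 &&
      (cosets.getD q []).getD 3 0 == sig3.getD (q + 2) 0) = true := by
  decide +kernel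

theorem card_cent_σ : Nat.card (Subgroup.centralizer ({σ} : Set M24)) ≤ 504 := by
  classical
  obtain ⟨hclen, hcok, hlen, s23, s0, s2, hag⟩ := cent_fix_ok
  set C := Subgroup.centralizer ({σ} : Set M24)
  have hpt : ∀ i < 24, (σ : Equiv.Perm GolayPt) (pt i) = pt (sig3.getD i 0) := by
    intro i hi
    rw [← toList_σ, toList_getD _ hi, pt_idx]
  have hcomm : ∀ c : C, ∀ p, ((c : M24) : Equiv.Perm GolayPt) ((σ : Equiv.Perm GolayPt) p) =
      (σ : Equiv.Perm GolayPt) (((c : M24) : Equiv.Perm GolayPt) p) := fun c p =>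
    congrArg (fun z : M24 => (z : Equiv.Perm GolayPt) p) (Subgroup.mem_centralizer_singleton_iff.1 c.2)
  let F := (cosets.flatMap fun k => fiveList.map (compL k)).filter fun f =>
    compL f sig3 == compL sig3 f
  have horb : Nat.card (MulAction.orbit C (pt 23)) ≤ 24 := by
    rw [Nat.card_eq_fintype_card, ← card_golayPt]
    exact set_fintype_card_le_univ _
  have hmem : ∀ c : MulAction.stabilizer C (pt 23),
      toList ((c.1 : M24) : Equiv.Perm GolayPt) ∈ F := by
    rintro ⟨c, hfix⟩
    have e23 : ((c : M24) : Equiv.Perm GolayPt) (pt 23) = pt 23 := hfix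
    have e0 : ((c : M24) : Equiv.Perm GolayPt) (pt 0) = pt 0 := by
      rw [← s23, ← hpt 23 (by norm_num), hcomm, e23]
    have e1 : ((c : M24) : Equiv.Perm GolayPt) (pt 1) = pt 1 := by
      rw [← s0, ← hpt 0 (by norm_num), hcomm, e0]
    set t := idx (((c : M24) : Equiv.Perm GolayPt) (pt 2)) with ht
    have htlt : t < 24 := idx_lt _
    have hne : ∀ i < 24, ((c : M24) : Equiv.Perm GolayPt) (pt i) = pt i → i ≠ 2 → t ≠ i := by
      intro i hi e hi2 h
      have h' := congrArg pt h
      rw [pt_idx, ← e] at h'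
      exact hi2 (by rw [← idx_pt i hi, ← ((c : M24) : Equiv.Perm GolayPt).injective h',
        idx_pt 2 (by norm_num)])
    have t0 := hne 0 (by norm_num) e0 (by norm_num)
    have t1 := hne 1 (by norm_num) e1 (by norm_num)
    have t23 := hne 23 (by norm_num) e23 (by norm_num)
    have e3 : idx (((c : M24) : Equiv.Perm GolayPt) (pt 3)) = sig3.getD t 0 := by
      rw [← s2, ← hpt 2 (by norm_num), hcomm, ← toList_σ, toList_getD_idx]
    have hq := List.all_eq_true.1 hag (t - 2) (List.mem_range.2 (by omega))
    simp only [Bool.and_eq_true, beq_iff_eq, show t - 2 + 2 = t by omega] at hq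
    obtain ⟨⟨⟨⟨⟨-, q23⟩, q0⟩, q1⟩, q2⟩, q3⟩ := hq
    have hk : cosets.getD (t - 2) [] ∈ cosets := by
      rw [List.getD_eq_getElem _ _ (by omega)]; exact List.getElem_mem _
    refine List.mem_filter.2 ⟨List.mem_flatMap.2 ⟨_, hk,
      coset_mem (Q := q5) (by decide) fixList_five (List.all_eq_true.1 hcok _ hk) ?_⟩, ?_⟩
    · rw [agreeL_iff]
      intro i hi
      simp only [q5, List.mem_cons, List.not_mem_nil, or_false] at hi
      rcases hi with rfl | rfl | rfl | rfl | rfl <;> rw [toList_getD _ (by norm_num)]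
      · rw [q23, e23, idx_pt 23 (by norm_num)]
      · rw [q0, e0, idx_pt 0 (by norm_num)]
      · rw [q1, e1, idx_pt 1 (by norm_num)]
      · rw [q2]
      · rw [q3, e3]
    · rw [beq_iff_eq, ← toList_σ, ← toList_mul, ← toList_mul, ← Subgroup.coe_mul, ← Subgroup.coe_mul,
        Subgroup.mem_centralizer_singleton_iff.1 c.2]
  have hstab : Nat.card (MulAction.stabilizer C (pt 23)) ≤ 21 :=
    calc Nat.card (MulAction.stabilizer C (pt 23)) ≤ Nat.card F.toFinset :=
          Nat.card_le_card_of_injective (fun c => ⟨_, List.mem_toFinset.2 (hmem c)⟩)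
            fun a b e => Subtype.ext (Subtype.ext (toList_coe_injective (congrArg Subtype.val e)))
      _ ≤ 21 := by
          rw [Nat.card_eq_finsetCard]
          exact (List.toFinset_card_le _).trans hlen
  calc Nat.card C = Nat.card (MulAction.stabilizer C (pt 23)) * Nat.card (MulAction.orbit C (pt 23)) := by
        rw [Nat.card_congr (MulAction.orbitEquivQuotientStabilizer C (pt 23)), mul_comm,
          ← Subgroup.card_eq_card_quotient_mul_card_subgroup]
    _ ≤ 21 * 24 := Nat.mul_le_mul hstab horb

theorem basis_ok : basOK bas = true ∧ fixOK bas [.mono sig3 0] = true := by decide +kernel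

theorem reps_ok : repsOK bas reps = true := by decide +kernel

theorem span_ok : spanOK bas [.mono sig3 0] 3 nsum = true := by decide +kernel

/-- The automorphism of order 3 with its fixed classes. -/
noncomputable def S : Sys where
  σ := σ
  L := sig3
  hL := toList_σ
  bas := bas
  reps := reps
  ns := nsum
  p := 3
  hp := rfl
  hb := basis_ok.1
  hr := reps_ok
  hf := basis_ok.2
  hs := span_ok

theorem S_N : S.N = 256 := rfl

/-- The marked sets in a list. -/
def allPts : List (Fin 9) := List.finRange 9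

theorem mem_allPts : ∀ j, j ∈ allPts := List.mem_finRange

theorem marks_lt' : ∀ j, marks j < 2 ^ 256 := by decide +kernel

theorem marks_lt : ∀ j, marks j < 2 ^ S.N := marks_lt'

theorem marks_inj : Function.Injective marks := by
  intro a b
  revert a b
  decide +kernel

/-- The induced permutation. -/
noncomputable def Φ : S.dom marks →* Equiv.Perm (Fin 9) := S.perm marks marks_lt marks_inj

theorem gen0 : S.genB marks allPts gw0 gm0 gp0 = true := by decide +kernel

theorem gen1 : S.genB marks allPts gw1 gm1 gp1 = true := by decide +kernel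

theorem gen2 : S.genB marks allPts gw2 gm2 gp2 = true := by decide +kernel

theorem gen3 : S.genB marks allPts gw3 gm3 gp3 = true := by decide +kernel

theorem gen4 : S.genB marks allPts gw4 gm4 gp4 = true := by decide +kernel

theorem gen5 : S.genB marks allPts gw5 gm5 gp5 = true := by decide +kernel

theorem gen6 : S.genB marks allPts gw6 gm6 gp6 = true := by decide +kernel

theorem gen7 : S.genB marks allPts gw7 gm7 gp7 = true := by decide +kernel

end CfsgLib.ThSect
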