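/-
The centraliser of the element of order 3 modulo the group of order 6 it generates with negation is
A₉.
-/
import Cfsg.Agent.ThSect.Cent

set_option autoImplicit false
set_option linter.constructorNameAsVariable false
set_option maxRecDepth 100000

namespace CfsgLib.ThSect

open Cfsg CfsgLib.Golay CfsgLib.Leech CfsgLib.LeechFix

attribute [local irreducible] shortVecs halfTable quarterTable codeFinset

theorem orderOf_rho : orderOf S.rho = 3 := by
  have : Fact (Nat.Prime 3) := ⟨by norm_num⟩
  have h : ∀ x : M24, permHom x = 1 → x = 1 := fun x e => by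
    rw [← map_one permHom, permHom_eq_monoAut, permHom_eq_monoAut] at e
    exact congrArg Prod.snd (monoAut_injective e)
  show orderOf (permHom σ) = 3
  refine orderOf_eq_prime ?_ fun e => ?_
  · rw [← map_pow, ← orderOf_σ, pow_orderOf_eq_one, map_one]
  · have := orderOf_σ
    rw [h _ e, orderOf_one] at this
    omega

/-- The element of order 6 acting trivially. -/
noncomputable def ζ : Co0 := negAut * S.rho

theorem negAut_comm (g : Co0) : g * negAut = negAut * g :=
  Subgroup.mem_center_iff.1 negAut_central g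

theorem ind_rho : S.Ind marks S.rho 1 := fun j m hm m' hm' e => by
  rw [S.rho_fix] at e
  rw [S.cl_inj hm hm' e]; rfl

theorem ind_neg : S.Ind marks negAut 1 := fun j m hm m' hm' e => by
  rw [negAut_smul, AddSubgroup.coe_neg, cls_neg (S.vec' m).2, S.cls_vec'] at e
  rw [S.cl_inj hm hm' e]; rfl

theorem rho_cent : S.rho ∈ S.cent := S.mem_cent.2 rfl

theorem ind_ζ : S.Ind marks ζ 1 := by
  have := S.ind_mul marks rho_cent ind_neg ind_rho
  rwa [one_mul] at this

theorem ζ_cent : ζ ∈ S.cent :=
  mul_mem (S.mem_cent.2 (negAut_comm _).symm) rho_cent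

theorem orderOf_ζ : orderOf ζ = 6 := by
  have : Fact (Nat.Prime 2) := ⟨Nat.prime_two⟩
  have hn : orderOf negAut = 2 := by
    refine orderOf_eq_prime (by rw [pow_two, negAut_sq]) fun e => ?_
    have h := congrArg (fun g : Co0 => ((g • eightAt none : leechLattice) : GolayPt → ℤ) none) e
    simp only [negAut_smul, one_smul, AddSubgroup.coe_neg, Pi.neg_apply, eightAt_apply, if_true] at h
    omega
  rw [ζ, (show Commute negAut S.rho from (negAut_comm S.rho).symm).orderOf_mul_eq_mul_orderOf_of_coprime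
      (by rw [hn, orderOf_rho]; rfl), hn, orderOf_rho]

/-- The permutation group. -/
abbrev Wr : Subgroup (Equiv.Perm (Fin 9)) := alternatingGroup (Fin 9)

theorem card_Wr : Nat.card Wr = 181440 := by
  rw [nat_card_alternatingGroup]
  norm_num [Nat.factorial]

/-- The generators' permutations by number. -/
def gpN (i : ℕ) : Equiv.Perm (Fin 9) :=
  [gp0, gp1, gp2, gp3, gp4, gp5, gp6, gp7].getD i 1

/-- The value of a word. -/
def evalW (w : List ℕ) : Equiv.Perm (Fin 9) := (w.map gpN).prod

theorem chain_ok : ∀ k : Fin 9, k.val < 7 → ∀ j : Fin 9, k ≤ j →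
    evalW ((chain.getD k.val []).getD (j.val - k.val) []) k = j ∧
      ∀ i : Fin 9, i < k → evalW ((chain.getD k.val []).getD (j.val - k.val) []) i = i := by
  decide +kernel

theorem gpN_image (i : ℕ) : gpN i ∈ Φ.range := by
  have h : ∀ {w : List Op} {Ms : List ℕ} {π : Equiv.Perm (Fin 9)},
      S.genB marks allPts w Ms π = true → π ∈ Φ.range := fun h => by
    obtain ⟨g, hg, -, hind⟩ := S.genB_spec marks mem_allPts h
    exact ⟨⟨g, hg⟩, S.perm_eq marks marks_lt marks_inj (g := ⟨g, hg⟩) hind⟩
  rcases lt_or_ge i 8 with hi | hi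
  · interval_cases i
    exacts [h gen0, h gen1, h gen2, h gen3, h gen4, h gen5, h gen6, h gen7]
  · rw [gpN, List.getD_eq_default _ _ (by simpa using hi)]
    exact one_mem _

theorem evalW_mem (w : List ℕ) : evalW w ∈ Φ.range :=
  Subgroup.list_prod_mem _ fun x hx => by
    obtain ⟨i, -, rfl⟩ := List.mem_map.1 hx; exact gpN_image i

theorem gens_even : ∀ i < 8, Equiv.Perm.sign (gpN i) = 1 := by decide +kernel

theorem sign_evalW (w : List ℕ) : Equiv.Perm.sign (evalW w) = 1 := by
  induction w with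
  | nil => exact map_one _
  | cons i w ih =>
    rw [evalW, List.map_cons, List.prod_cons, map_mul,
      show Equiv.Perm.sign (w.map gpN).prod = 1 from ih, mul_one]
    rcases lt_or_ge i 8 with hi | hi
    · exact gens_even i hi
    · rw [gpN, List.getD_eq_default _ _ (by simpa using hi), map_one]

theorem wr_le_range : Wr ≤ Φ.range := by
  intro p hp
  have hp' : Equiv.Perm.sign p = 1 := hp
  have step : ∀ k, k ≤ 7 → ∃ h ∈ Φ.range, Equiv.Perm.sign h = 1 ∧ ∀ i : Fin 9, i.val < k → h i = p i := by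
    intro k
    induction k with
    | zero => intro _; exact ⟨1, one_mem _, map_one _, fun i hi => absurd hi (by omega)⟩
    | succ k ih =>
      intro hk
      obtain ⟨h, hh, hs, hfix⟩ := ih (by omega)
      let kk : Fin 9 := ⟨k, by omega⟩
      set j : Fin 9 := h⁻¹ (p kk) with hj
      have hkj : kk ≤ j := by
        by_contra hlt
        have e := hfix j (not_le.1 hlt)
        rw [show h j = p kk by rw [hj, Equiv.Perm.inv_def, Equiv.apply_symm_apply]] at e
        have e' := p.injective e
        -- e' says the point is the base point itself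
        exact absurd (not_le.1 hlt) (by rw [← e']; exact lt_irrefl _)
      obtain ⟨e1, e2⟩ := chain_ok kk (show k < 7 by omega) j hkj
      refine ⟨h * evalW ((chain.getD k []).getD (j.val - k) []), mul_mem hh (evalW_mem _),
        by rw [map_mul, hs, sign_evalW, one_mul], fun i hi => ?_⟩
      rw [Equiv.Perm.mul_apply]
      rcases Nat.lt_succ_iff_lt_or_eq.1 hi with h' | h'
      · rw [e2 i h', hfix i h']
      · obtain rfl : i = kk := Fin.ext h'
        rw [e1, hj, Equiv.Perm.inv_def, Equiv.apply_symm_apply]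
  obtain ⟨h, hh, hs, hfix⟩ := step 7 le_rfl
  suffices h⁻¹ * p = 1 by rw [inv_mul_eq_one] at this; exact this ▸ hh
  set d := h⁻¹ * p with hd
  have hds : Equiv.Perm.sign d = 1 := by rw [hd, map_mul, map_inv, hs, hp', inv_one, one_mul]
  have hd7 : ∀ i : Fin 9, i.val < 7 → d i = i := fun i hi => by
    rw [hd, Equiv.Perm.mul_apply, ← hfix i hi, Equiv.Perm.inv_def, Equiv.symm_apply_apply]
  have h78 : ∀ i : Fin 9, 7 ≤ i.val → i = 7 ∨ i = 8 := by decide +kernel
  have hmove : ∀ i : Fin 9, 7 ≤ i.val → 7 ≤ (d i).val := fun i hi => by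
    by_contra hlt
    have e := d.injective (hd7 (d i) (by omega))
    rw [e] at hlt
    omega
  rcases h78 _ (hmove 7 (le_refl 7)) with e | e
  · refine Equiv.ext fun i => ?_
    rcases lt_or_ge i.val 7 with hi | hi
    · exact hd7 i hi
    · rcases h78 i hi with rfl | rfl
      · exact e
      · rcases h78 _ (hmove 8 (by decide)) with e' | e'
        · exact absurd (d.injective (e'.trans e.symm)) (by decide)
        · exact e'
  · exfalso
    have e8 : d 8 = 7 := by
      rcases h78 _ (hmove 8 (by decide)) with e' | e'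
      · exact e'
      · exact absurd (d.injective (e'.trans e.symm)) (by decide)
    have hsw : d = Equiv.swap 7 8 := Equiv.ext fun i => by
      rcases lt_or_ge i.val 7 with hi | hi
      · rw [hd7 i hi, Equiv.swap_apply_of_ne_of_ne]
        · intro h'; rw [h'] at hi; exact absurd hi (by decide)
        · intro h'; rw [h'] at hi; exact absurd hi (by decide)
      · rcases h78 i hi with rfl | rfl
        · rw [e, Equiv.swap_apply_left]
        · rw [e8, Equiv.swap_apply_right]
    rw [hsw, Equiv.Perm.sign_swap (by decide)] at hds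
    exact absurd hds (by decide)

/-! ### The count -/

theorem frames_length : S.frames.length ≤ 135 := by
  show ((List.range (2 ^ bas.length)).filter fun m =>
    decide (m ≠ 0) && normL (reps.getD m []) == 64).length ≤ 135
  decide +kernel

theorem fixWords_le : Sys.fixWords sig3 ≤ 16 := by decide +kernel

theorem card_cent : Nat.card S.cent ≤ 1088640 :=
  calc Nat.card S.cent ≤ S.frames.length * Nat.card ↥(S.cent ⊓ monoGroup) := S.card_cent_le
    _ ≤ 135 * (504 * 16) := Nat.mul_le_mul frames_length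
        (S.card_cent_mono_le.trans (Nat.mul_le_mul card_cent_σ fixWords_le))

/-- The elements of the domain with even permutation. -/
noncomputable def wrDom : Subgroup Co0 := (Wr.comap Φ).map (S.dom marks).subtype

theorem wrDom_facts : wrDom = S.cent ∧ ∀ g : wrDom,
    Φ ⟨(g : Co0), by obtain ⟨y, -, e⟩ := g.2; exact e ▸ y.2⟩ = 1 → (g : Co0) ∈ Subgroup.zpowers ζ := by
  let f : (Wr.comap Φ) →* Wr := (Φ.comp (Wr.comap Φ).subtype).codRestrict Wr fun g => g.2
  have hf : Function.Surjective f := fun p => by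
    obtain ⟨g, hg⟩ := wr_le_range p.2
    exact ⟨⟨g, by show Φ g ∈ Wr; rw [hg]; exact p.2⟩, Subtype.ext hg⟩
  have hζd : ζ ∈ S.dom marks := ⟨ζ_cent, 1, ind_ζ⟩
  have hζ1 : Φ ⟨ζ, hζd⟩ = 1 := S.perm_eq marks marks_lt marks_inj (g := ⟨ζ, hζd⟩) ind_ζ
  let ζ' : Wr.comap Φ := ⟨⟨ζ, hζd⟩, by show Φ _ ∈ Wr; rw [hζ1]; exact one_mem _⟩
  have hk : Subgroup.zpowers ζ' ≤ f.ker := Subgroup.zpowers_le.2 (Subtype.ext hζ1)
  have ho : orderOf ζ' = 6 := by
    rw [← orderOf_ζ, ← orderOf_injective ((S.dom marks).subtype.comp (Wr.comap Φ).subtype)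
      (fun a b h => Subtype.ext (Subtype.ext h)) ζ']
    rfl
  have h6 : 6 ≤ Nat.card f.ker := by
    rw [← ho, ← Nat.card_zpowers]; exact Subgroup.card_le_of_le hk
  have hcard : Nat.card (Wr.comap Φ) = 181440 * Nat.card f.ker := by
    rw [Subgroup.card_eq_card_quotient_mul_card_subgroup f.ker,
      Nat.card_congr (QuotientGroup.quotientKerEquivOfSurjective f hf).toEquiv, card_Wr]
  have hle : wrDom ≤ S.cent := by
    rintro _ ⟨g, -, rfl⟩; exact g.2.1
  have hmap : Nat.card wrDom = Nat.card (Wr.comap Φ) :=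
    Subgroup.card_map_of_injective (S.dom marks).subtype_injective
  have hc := card_cent
  have hle' := Subgroup.card_le_of_le hle
  refine ⟨Subgroup.eq_of_le_of_card_ge hle (by omega), ?_⟩
  have hker : f.ker = Subgroup.zpowers ζ' := (Subgroup.eq_of_le_of_card_ge hk (by
    rw [Nat.card_zpowers, ho]; omega)).symm
  rintro ⟨g, hg⟩ h1
  obtain ⟨y, hy, e⟩ := hg
  subst e
  have : (⟨y, hy⟩ : Wr.comap Φ) ∈ f.ker := Subtype.ext h1
  rw [hker, Subgroup.mem_zpowers_iff] at this
  obtain ⟨k, hk'⟩ := this
  exact ⟨k, by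
    show ζ ^ k = _
    have := congrArg (fun w : Wr.comap Φ => (((w : S.dom marks)) : Co0)) hk'
    simpa [ζ'] using this⟩

theorem cent_dom {g : Co0} (hg : g ∈ S.cent) : g ∈ S.dom marks := by
  rw [← wrDom_facts.1] at hg
  obtain ⟨y, -, rfl⟩ := hg
  exact y.2

theorem cent_wr {g : Co0} (hg : g ∈ S.cent) : Φ ⟨g, cent_dom hg⟩ ∈ Wr := by
  have hg' := hg
  rw [← wrDom_facts.1] at hg'
  obtain ⟨y, hy, rfl⟩ := hg'
  exact hy

/-- The permutation representation of the centraliser. -/
noncomputable def ψ : S.cent →* Wr :=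
  (Φ.comp ((S.cent.subtype).codRestrict (S.dom marks) fun g => cent_dom g.2)).codRestrict Wr
    fun g => cent_wr g.2

theorem ψ_surjective : Function.Surjective ψ := fun p => by
  obtain ⟨g, hg⟩ := wr_le_range p.2
  exact ⟨⟨(g : Co0), g.2.1⟩, Subtype.ext hg⟩

theorem ψ_eq_one_of_ind {g : S.cent} (h : S.Ind marks (g : Co0) 1) : ψ g = 1 :=
  Subtype.ext (S.perm_eq marks marks_lt marks_inj (g := ⟨(g : Co0), cent_dom g.2⟩) h)

theorem ψ_ker {g : S.cent} (h : ψ g = 1) : (g : Co0) ∈ Subgroup.zpowers ζ :=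
  wrDom_facts.2 ⟨(g : Co0), by rw [wrDom_facts.1]; exact g.2⟩ (congrArg Subtype.val h)

theorem mk_mem_zpowers {g : Co0} (h : g ∈ Subgroup.zpowers ζ) :
    (QuotientGroup.mk g : Spor.Co1) ∈ Subgroup.zpowers (QuotientGroup.mk S.rho : Spor.Co1) := by
  have e : (QuotientGroup.mk ζ : Spor.Co1) = QuotientGroup.mk S.rho := by
    show QuotientGroup.mk' (Subgroup.center Co0) (negAut * S.rho) = _
    rw [map_mul, show QuotientGroup.mk' (Subgroup.center Co0) negAut = 1 from
      (QuotientGroup.eq_one_iff negAut).2 negAut_central, one_mul]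
    rfl
  obtain ⟨k, rfl⟩ := Subgroup.mem_zpowers_iff.1 h
  exact Subgroup.mem_zpowers_iff.2 ⟨k, by rw [← e]; rfl⟩

theorem gram_ok : (List.range 256).all (fun m => decide (m = 0) ||
    (List.range 8).any fun i => dotL (combV bas m) (combV bas (2 ^ i)) % 16 != 0) = true := by
  decide +kernel

theorem gram {m : ℕ} (hm : m < S.N)
    (h : ∀ i < 8, (16 : ℤ) ∣ dotInt (S.vec' m : GolayPt → ℤ) (S.vec' (2 ^ i) : GolayPt → ℤ)) :
    m = 0 := by
  have h1 := List.all_eq_true.1 gram_ok m (List.mem_range.2 hm)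
  simp only [Bool.or_eq_true, decide_eq_true_eq, List.any_eq_true, List.mem_range, bne_iff_ne] at h1
  rcases h1 with h1 | ⟨i, hi, hne⟩
  · exact h1
  exfalso
  refine hne (Int.emod_eq_zero_of_dvd ?_)
  rw [← dot_ofL (combV_spec basis_ok.1 m).1 (combV_spec basis_ok.1 _).1]
  exact h i hi

/-- A normal solvable subgroup is trivial. -/
theorem solvable_normal_bot (N : Subgroup Wr) [N.Normal] [Group.IsSolvable N] : N = ⊥ := by
  have hsimp : IsSimpleGroup Wr := alternatingGroup.isSimpleGroup (by rw [Nat.card_fin]; norm_num)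
  rcases (inferInstance : N.Normal).eq_bot_or_eq_top with h | h
  · exact h
  exfalso
  have : Group.IsSolvable Wr := Group.isSolvable_of_surjective (f := N.subtype) (by
    rw [← MonoidHom.range_eq_top, Subgroup.range_subtype, h])
  have hc := IsSimpleGroup.comm_iff_isSolvable.2 this
  have e : (⟨Equiv.swap (0 : Fin 9) 1 * Equiv.swap 1 2, Equiv.Perm.mem_alternatingGroup.2 (by decide)⟩ : Wr) *
      ⟨Equiv.swap (0 : Fin 9) 1 * Equiv.swap 1 3, Equiv.Perm.mem_alternatingGroup.2 (by decide)⟩ = _ := hc _ _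
  exact absurd (congrArg (fun p : Wr => (p : Equiv.Perm (Fin 9)) 0) e) (by decide)

end CfsgLib.ThSect
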