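/-
A subgroup of order 3 of the joint centraliser that is not 3-central: in a suitable frame its
generator acts on the lattice as the chosen fixed-point-free element of order 3.
-/
import Cfsg.Agent.ThSect.Group
import Cfsg.Agent.Monster.PrimeSection
import Cfsg.Agent.Leech.Simple

set_option autoImplicit false
set_option linter.style.haveILetI false
set_option linter.constructorNameAsVariable false

namespace CfsgLib.ThSect

open Cfsg CfsgLib.Golay CfsgLib.Leech CfsgLib.Monster

attribute [local irreducible] shortVecs halfTable quarterTable codeFinset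

theorem three_prime : Nat.Prime 3 := by norm_num

/-- In the monomial group an element of order 3 is conjugate to the lift of its permutation. -/
theorem mono_lift {m : monoGroup} (hm : orderOf m = 3) :
    orderOf (monoPerm m) = 3 ∧
      ∃ h : monoGroup, h * ⟨permHom (monoPerm m), permHom_mem _⟩ * h⁻¹ = m := by
  haveI : Fact (Nat.Prime 3) := ⟨three_prime⟩
  set x := monoPerm m with hx
  have hx3 : orderOf x = 3 := by
    refine orderOf_eq_prime (by rw [hx, ← map_pow, ← hm, pow_orderOf_eq_one, map_one]) fun e => ?_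
    obtain ⟨w, hw⟩ := eq_signAut_of_monoPerm e
    have hss : signAut w * signAut w = 1 := by
      refine ext_co0 fun v => Subtype.ext ?_
      rw [mul_smul, signAut_apply, signAut_apply, flipSign_flipSign, one_smul]
    have h2 : m ^ 2 = 1 := Subtype.ext (by rw [pow_two, Subgroup.coe_mul, hw]; exact hss)
    have := orderOf_dvd_of_pow_eq_one h2
    rw [hm] at this
    omega
  set E : Subgroup monoGroup := (Subgroup.zpowers x).comap monoPerm with hE
  have hker : Nat.card monoPerm.ker = 4096 := by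
    have h1 := Subgroup.card_eq_card_quotient_mul_card_subgroup monoPerm.ker
    rw [Nat.card_congr (QuotientGroup.quotientKerEquivOfSurjective monoPerm monoPerm_surjective).toEquiv,
      card_monoGroup, card_M24, mul_comm 4096] at h1
    exact (Nat.eq_of_mul_eq_mul_left (by norm_num) h1).symm
  have hcard : ¬ 3 ^ 2 ∣ Nat.card E := by
    intro hd
    let f := monoPerm.comp E.subtype
    have h1 := Subgroup.card_eq_card_quotient_mul_card_subgroup f.ker
    rw [Nat.card_congr (QuotientGroup.quotientKerEquivRange f).toEquiv] at h1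
    have hr : Nat.card f.range ∣ 3 := by
      rw [← hx3, ← Nat.card_zpowers]
      exact Subgroup.card_dvd_of_le (by rintro _ ⟨e, rfl⟩; exact e.2)
    have hk : Nat.card f.ker ∣ 4096 := by
      rw [← hker]
      let F : f.ker →* monoPerm.ker :=
        { toFun := fun e => ⟨((e : E) : monoGroup), e.2⟩
          map_one' := rfl
          map_mul' := fun _ _ => rfl }
      refine Subgroup.card_dvd_of_injective F fun a b h => Subtype.ext (Subtype.ext ?_)
      exact congrArg (fun u : monoPerm.ker => (u : monoGroup)) h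
    rw [h1] at hd
    have := hd.trans (Nat.mul_dvd_mul hr hk)
    norm_num at this
  have hmE : m ∈ E := Subgroup.mem_zpowers x
  have hpE : (⟨permHom x, permHom_mem _⟩ : monoGroup) ∈ E := by
    show monoPerm _ ∈ Subgroup.zpowers x
    rw [monoPerm_permHom]; exact Subgroup.mem_zpowers x
  have hop : orderOf (⟨⟨permHom x, permHom_mem _⟩, hpE⟩ : E) = 3 := by
    rw [← Subgroup.orderOf_coe, ← Subgroup.orderOf_coe]
    show orderOf (permHom x) = 3
    refine orderOf_eq_prime (by rw [← map_pow, ← hx3, pow_orderOf_eq_one, map_one]) fun e => ?_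
    have h2 := congrArg monoPerm (Subtype.ext e : (⟨permHom x, permHom_mem x⟩ : monoGroup) = 1)
    rw [monoPerm_permHom, map_one] at h2
    rw [h2, orderOf_one] at hx3
    omega
  have hom : orderOf (⟨m, hmE⟩ : E) = 3 := by rw [← Subgroup.orderOf_coe]; exact hm
  obtain ⟨k, -, hk⟩ := PrimeNorm.exists_isConj_pow hcard hop hom
  obtain ⟨e, he⟩ := isConj_iff.1 hk
  have he' : (e : monoGroup) * (⟨permHom x, permHom_mem _⟩ : monoGroup) ^ k * (e : monoGroup)⁻¹ = m :=
    congrArg Subtype.val he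
  obtain ⟨j, hj⟩ := Subgroup.mem_zpowers_iff.1 (show monoPerm e ∈ Subgroup.zpowers x from e.2)
  have hxk : x ^ k = x := by
    have e1 := congrArg monoPerm he'
    rw [map_mul, map_mul, map_inv, map_pow, monoPerm_permHom, ← hx, ← hj] at e1
    rwa [((Commute.refl x).zpow_left j).pow_right k |>.eq, mul_inv_cancel_right] at e1
  refine ⟨hx3, e, ?_⟩
  have hpk : (⟨permHom x, permHom_mem x⟩ : monoGroup) ^ k = ⟨permHom x, permHom_mem x⟩ :=
    Subtype.ext (by rw [SubmonoidClass.coe_pow, ← map_pow, hxk])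
  rw [hpk] at he'
  exact he'

variable {G : Type*} [Group G] [Finite G] {z s : G} (D : Data z)

/-- The joint centraliser. -/
def pairCent (z s : G) : Subgroup G := Subgroup.centralizer ({z, s} : Set G)

/-- The centraliser of three elements. -/
def triCent (z s y : G) : Subgroup G := Subgroup.centralizer ({z, s, y} : Set G)

theorem mem_pairCent {x : G} : x ∈ pairCent z s ↔ x * z = z * x ∧ x * s = s * x := by
  simp only [pairCent, Subgroup.mem_centralizer_iff, Set.mem_insert_iff, Set.mem_singleton_iff,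
    forall_eq_or_imp, forall_eq, eq_comm (a := z * x), eq_comm (a := s * x)]

theorem mem_triCent {x y : G} :
    x ∈ triCent z s y ↔ x * z = z * x ∧ x * s = s * x ∧ x * y = y * x := by
  simp only [triCent, Subgroup.mem_centralizer_iff, Set.mem_insert_iff, Set.mem_singleton_iff,
    forall_eq_or_imp, forall_eq, eq_comm (a := z * x), eq_comm (a := s * x), eq_comm (a := y * x)]

theorem pairCent_le : pairCent z s ≤ Subgroup.centralizer ({z} : Set G) := fun _ hx =>
  Subgroup.mem_centralizer_singleton_iff.2 (mem_pairCent.1 hx).1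

theorem triCent_le {y : G} : triCent z s y ≤ pairCent z s := fun _ hx =>
  mem_pairCent.2 ⟨(mem_triCent.1 hx).1, (mem_triCent.1 hx).2.1⟩

theorem stab_image (hs : s ∈ D.Q) (hs1 : s ≠ 1) (hsz : s ≠ z) {v : leechLattice}
    (hv : D.cl s = cls (v : GolayPt → ℤ)) {g₀ : Co0} (h₀ : g₀ • v = eightAt none)
    {c : Subgroup.centralizer ({z} : Set G)} (hc : (c : G) ∈ pairCent z s) :
    ∃ g : Co0, D.π c = QuotientGroup.mk g ∧ g₀ * g * g₀⁻¹ ∈ monoGroup := by
  obtain ⟨g, hg⟩ := Monster.exists_lift D c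
  refine ⟨g, hg, (cls_fix_iff_mono h₀ g).1 ((image_fix_iff D hs hs1 hsz hv g).1 ⟨c, ?_, hg⟩)⟩
  exact mul_inv_eq_iff_eq_mul.2 (mem_pairCent.1 hc).2

/-- The joint centraliser has 3-part at most 27. -/
theorem three_part (hs : s ∈ D.Q) (hsz : s ≠ z) (hcs : D.cl s = cls (eightAt none : GolayPt → ℤ)) :
    ¬ 3 ^ 4 ∣ Nat.card (pairCent z s) := by
  have hn : sqNorm (eightAt none : GolayPt → ℤ) = 64 := sqNorm_eightAt none
  obtain ⟨hs1, -⟩ := ne_of_cls D hs hcs (Or.inr (Or.inr hn))
  intro hd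
  rw [← Nat.card_congr (Subgroup.subgroupOfEquivOfLe (pairCent_le (z := z) (s := s))).toEquiv] at hd
  let I : Subgroup Spor.Co1 := monoGroup.map (QuotientGroup.mk' (Subgroup.center Co0))
  have hI : ∀ x ∈ (pairCent z s).subgroupOf (Subgroup.centralizer ({z} : Set G)), D.π x ∈ I := by
    intro x hx
    obtain ⟨a, ha, hm⟩ := stab_image D hs hs1 hsz hcs (g₀ := 1) (one_smul _ _) hx
    rw [one_mul, inv_one, mul_one] at hm
    exact ⟨a, hm, ha.symm⟩
  have h1 := hd.trans ((card_dvd_of_image D _ hI).trans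
    (Nat.mul_dvd_mul_left _ (Subgroup.card_map_dvd monoGroup _)))
  rw [card_monoGroup] at h1
  norm_num at h1

/-- An element whose joint centraliser has order prime to 27 acts as the chosen element. -/
theorem exists_frame_conj (hs : s ∈ D.Q) (hsz : s ≠ z)
    (hcs : D.cl s = cls (eightAt none : GolayPt → ℤ)) {y : Subgroup.centralizer ({z} : Set G)}
    (hy : (y : G) ∈ pairCent z s) (hy3 : orderOf (y : G) = 3)
    (hsmall : ¬ 27 ∣ Nat.card (triCent z s (y : G))) :
    ∃ h ∈ monoGroup, D.π y = QuotientGroup.mk (h * S.rho * h⁻¹) := by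
  haveI : Fact (Nat.Prime 3) := ⟨three_prime⟩
  have hn : sqNorm (eightAt none : GolayPt → ℤ) = 64 := sqNorm_eightAt none
  obtain ⟨hs1, -⟩ := ne_of_cls D hs hcs (Or.inr (Or.inr hn))
  obtain ⟨a, ha, hm⟩ := stab_image D hs hs1 hsz hcs (g₀ := 1) (one_smul _ _) (c := y) hy
  rw [one_mul, inv_one, mul_one] at hm
  let p := QuotientGroup.mk' (Subgroup.center Co0)
  have hpm : orderOf (p a) = 3 := by
    show orderOf (QuotientGroup.mk a : Spor.Co1) = 3
    rw [← ha, orderOf_π D three_prime (by norm_num) hy3]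
  have hcen : (a ^ 3) * (a ^ 3) = 1 := center_sq ((QuotientGroup.eq_one_iff _).1 (by
    show p (a ^ 3) = 1
    rw [map_pow, ← hpm, pow_orderOf_eq_one]))
  have hp4 : p (a ^ 4) = p a := by rw [map_pow, pow_succ, ← hpm, pow_orderOf_eq_one, one_mul]
  have ho4 : orderOf (⟨a ^ 4, pow_mem hm 4⟩ : monoGroup) = 3 := by
    rw [← Subgroup.orderOf_coe]
    refine orderOf_eq_prime ?_ fun e => ?_
    · show (a ^ 4) ^ 3 = 1
      rw [← pow_mul, show 4 * 3 = 3 * 2 * 2 by norm_num, pow_mul, pow_mul, pow_two (a ^ 3), hcen,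
        one_pow]
    · have h' : a ^ 4 = 1 := e
      rw [← hp4, h', map_one, orderOf_one] at hpm
      omega
  obtain ⟨hx3, h, hh⟩ := mono_lift ho4
  set x := monoPerm (⟨a ^ 4, pow_mem hm 4⟩ : monoGroup)
  have hh' : (h : Co0) * permHom x * (h : Co0)⁻¹ = a ^ 4 := congrArg Subtype.val hh
  have hπy : D.π y = QuotientGroup.mk ((h : Co0) * permHom x * (h : Co0)⁻¹) := by
    rw [hh', ha]; exact hp4.symm
  by_cases h0 : (Cert.fixedPts (x : Equiv.Perm GolayPt)).card = 0
  · obtain ⟨k, hk⟩ := exists_conj_σ hx3 h0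
    refine ⟨(h : Co0) * permHom k⁻¹, mul_mem h.2 (permHom_mem _), ?_⟩
    rw [hπy]
    congr 1
    show _ = (h : Co0) * permHom k⁻¹ * permHom σ * ((h : Co0) * permHom k⁻¹)⁻¹
    rw [← hk, map_mul, map_mul, map_inv]
    group
  exfalso
  obtain ⟨P, hP, hPx⟩ := exists_syl hx3 h0
  set T := (triCent z s (y : G)).subgroupOf (Subgroup.centralizer ({z} : Set G))
  let F : M24 →* Spor.Co1 := p.comp ((MulAut.conj (h : Co0)).toMonoidHom.comp permHom)
  have hF : ∀ q, F q = QuotientGroup.mk ((h : Co0) * permHom q * (h : Co0)⁻¹) := fun _ => rfl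
  have hFinj : Function.Injective F := by
    rw [injective_iff_map_eq_one]
    intro q hq
    rw [hF] at hq
    have hc := (QuotientGroup.eq_one_iff _).1 hq
    refine permHom_central ?_
    have := (inferInstance : (Subgroup.center Co0).Normal).conj_mem _ hc (h : Co0)⁻¹
    rwa [inv_inv, show (h : Co0)⁻¹ * ((h : Co0) * permHom q * (h : Co0)⁻¹) * (h : Co0) = permHom q by
      group] at this
  have hyT : y ∈ T := mem_triCent.2 ⟨(mem_pairCent.1 hy).1, (mem_pairCent.1 hy).2, rfl⟩
  have hle : P.map F ≤ T.map D.π := by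
    rintro _ ⟨q, hq, rfl⟩
    obtain ⟨c, hcs', hc⟩ := (image_fix_iff D hs hs1 hsz hcs ((h : Co0) * permHom q * (h : Co0)⁻¹)).2
      (mul_mem (mul_mem h.2 (permHom_mem q)) (inv_mem h.2))
    obtain ⟨c', hc'L, hc', j, hj⟩ := adjust D three_prime (by norm_num) (M := pairCent z s)
      (b := y) (c := c) hy (mem_pairCent.2 ⟨Subgroup.mem_centralizer_singleton_iff.1 c.2,
        mul_inv_eq_iff_eq_mul.1 hcs'⟩) hy3 (a := 1) (by
        rw [pow_one, hc, hπy, ← hF, ← hF, ← map_inv, ← map_mul, ← map_mul]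
        exact congrArg F (mul_inv_eq_iff_eq_mul.2 (hPx q hq)))
    rw [pow_one] at hc'
    have hc'T : c' ∈ T := mem_triCent.2 ⟨(mem_pairCent.1 hc'L).1, (mem_pairCent.1 hc'L).2,
      mul_inv_eq_iff_eq_mul.1 hc'⟩
    refine ⟨(y ^ j)⁻¹ * c', mul_mem (inv_mem (zpow_mem hyT j)) hc'T, ?_⟩
    rw [map_mul, map_inv, map_zpow, hj, inv_mul_cancel_left, hc, hF]
  refine hsmall ?_
  rw [← Nat.card_congr (Subgroup.subgroupOfEquivOfLe (triCent_le.trans pairCent_le :
    triCent z s (y : G) ≤ _)).toEquiv]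
  have h27 : Nat.card (P.map F) = 27 := by rw [Subgroup.card_map_of_injective hFinj, hP]
  rw [← h27]
  exact (Subgroup.card_dvd_of_le hle).trans (Subgroup.card_map_dvd T D.π)

/-- A subgroup of order 3 lying in no centre of a Sylow 3-subgroup has small joint centraliser. -/
theorem small_of_noncentral (hL : ¬ 3 ^ 4 ∣ Nat.card (pairCent z s)) {y : G}
    (hy : y ∈ pairCent z s) (hy3 : orderOf y = 3)
    (hnc : ∀ P : Sylow 3 ↥(pairCent z s), ¬ (Subgroup.zpowers y).subgroupOf (pairCent z s) ≤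
      (Subgroup.center ↥(P : Subgroup ↥(pairCent z s))).map
        (P : Subgroup ↥(pairCent z s)).subtype) :
    ¬ 27 ∣ Nat.card (triCent z s y) := by
  haveI : Fact (Nat.Prime 3) := ⟨three_prime⟩
  intro hd
  set T := (triCent z s y).subgroupOf (pairCent z s)
  have hT : Nat.card T = Nat.card (triCent z s y) :=
    Nat.card_congr (Subgroup.subgroupOfEquivOfLe triCent_le).toEquiv
  rw [← hT, show 27 = 3 ^ 3 by norm_num] at hd
  obtain ⟨P₀, hP₀⟩ := Sylow.exists_subgroup_card_pow_prime 3 hd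
  let yL : pairCent z s := ⟨y, hy⟩
  set P₁ := P₀.map T.subtype
  have hP₁ : IsPGroup 3 P₁ := IsPGroup.of_card (n := 3) (by
    rw [Subgroup.card_map_of_injective T.subtype_injective, hP₀])
  have hcomm : ∀ p ∈ P₁, p * yL = yL * p := by
    rintro _ ⟨p, -, rfl⟩
    exact Subtype.ext (mem_triCent.1 p.2).2.2
  have hZ : IsPGroup 3 (Subgroup.zpowers yL) :=
    IsPGroup.of_card (n := 1) (by rw [Nat.card_zpowers, ← Subgroup.orderOf_coe]; exact hy3.trans (pow_one 3).symm)
  have hN : P₁ ≤ Subgroup.normalizer (Subgroup.zpowers yL : Set (pairCent z s)) := by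
    intro p hp
    refine Subgroup.centralizer_le_normalizer _ (Subgroup.mem_centralizer_iff.2 ?_)
    rintro _ ⟨k, rfl⟩
    exact ((show Commute yL p from (hcomm p hp).symm).zpow_left k).eq
  obtain ⟨Q, hQ⟩ := (hP₁.to_sup_of_normal_right' hZ hN).exists_le_sylow
  have hQcard : Nat.card (Q : Subgroup (pairCent z s)) ≤ 27 := by
    rw [Q.card_eq_multiplicity]
    have h3 : (Nat.card (pairCent z s)).factorization 3 ≤ 3 := by
      by_contra h
      exact hL ((three_prime.pow_dvd_iff_le_factorization Nat.card_pos.ne').2 (by omega))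
    exact le_trans (Nat.pow_le_pow_right (by norm_num) h3) (by norm_num)
  have hQeq : P₁ = (Q : Subgroup (pairCent z s)) :=
    Subgroup.eq_of_le_of_card_ge (le_sup_left.trans hQ) (by
      rw [Subgroup.card_map_of_injective T.subtype_injective, hP₀]; exact hQcard)
  have hyQ : yL ∈ (Q : Subgroup (pairCent z s)) := hQ (le_sup_right (a := P₁) (Subgroup.mem_zpowers yL))
  refine hnc Q fun w hw => ?_
  have hw' : (w : G) ∈ Subgroup.zpowers y := hw
  obtain ⟨k, hk⟩ := Subgroup.mem_zpowers_iff.1 hw'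
  have hwy : w = yL ^ k := Subtype.ext (by rw [Subgroup.coe_zpow]; exact hk.symm)
  refine ⟨⟨w, hwy ▸ zpow_mem hyQ k⟩, Subgroup.mem_center_iff.2 fun q => Subtype.ext ?_, rfl⟩
  show (q : pairCent z s) * w = w * q
  rw [hwy]
  exact ((show Commute (q : pairCent z s) yL from hcomm _ (hQeq.symm ▸ q.2)).zpow_right k).eq

/-- A frame in which the subgroup of order 3 is generated by a lift of the chosen element. -/
theorem exists_standard (hs : s ∈ D.Q) (hsz : s ≠ z) (hconj : IsConj z s) {Y : Subgroup G}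
    (hY : Y ≤ pairCent z s) (hY3 : Nat.card Y = 3)
    (hnc : ∀ P : Sylow 3 ↥(pairCent z s), ¬ Y.subgroupOf (pairCent z s) ≤
      (Subgroup.center ↥(P : Subgroup ↥(pairCent z s))).map (P : Subgroup ↥(pairCent z s)).subtype) :
    ∃ (D' : Data z) (b : Subgroup.centralizer ({z} : Set G)),
      D'.Q = D.Q ∧ orderOf (b : G) = 3 ∧ Y = Subgroup.zpowers (b : G) ∧
      D'.π b = QuotientGroup.mk S.rho ∧ D'.cl s = cls (eightAt none : GolayPt → ℤ) ∧
      ¬ 27 ∣ Nat.card (triCent z s (b : G)) := by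
  haveI : Fact (Nat.Prime 3) := ⟨three_prime⟩
  obtain ⟨y, hy⟩ := exists_prime_orderOf_dvd_card' (G := Y) 3 (by rw [hY3])
  rw [← Subgroup.orderOf_coe] at hy
  have hYy : Y = Subgroup.zpowers (y : G) :=
    (Subgroup.eq_of_le_of_card_ge (Subgroup.zpowers_le.2 y.2) (by rw [hY3, Nat.card_zpowers, hy])).symm
  obtain ⟨g, hg⟩ := isConj_iff.1 hconj
  obtain ⟨v, hv, hn⟩ := norm_of_conj D hs hsz hg
  obtain ⟨g₀, h₀⟩ := frame_transitive (v := v) (w := eightAt none) hn (sqNorm_eightAt none)
  have hc₀ : (twist D g₀⁻¹).cl s = cls (eightAt none : GolayPt → ℤ) := by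
    show twistCl D _ s = _
    rw [twistCl_eq D _ hv, inv_inv, h₀]
  let bC : Subgroup.centralizer ({z} : Set G) := ⟨(y : G), pairCent_le (hY y.2)⟩
  have hsmall : ¬ 27 ∣ Nat.card (triCent z s (y : G)) :=
    small_of_noncentral (three_part (twist D g₀⁻¹) hs hsz hc₀) (hY y.2) hy
      fun P h => hnc P (by rwa [hYy])
  obtain ⟨h, hh, hπ⟩ := exists_frame_conj (twist D g₀⁻¹) hs hsz hc₀ (y := bC) (hY y.2) hy hsmall
  refine ⟨twist (twist D g₀⁻¹) h, bC, rfl, hy, hYy, ?_, ?_, hsmall⟩
  · rw [twist_π, hπ, QuotientGroup.mk_mul, QuotientGroup.mk_mul, QuotientGroup.mk_inv]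
    group
  · show twistCl (twist D g₀⁻¹) h s = _
    rw [twistCl_eq (twist D g₀⁻¹) h hc₀]
    exact (inv_mem hh : h⁻¹ ∈ monoGroup)

end CfsgLib.ThSect
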