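/-
An element centralising the element of order 3 and moving the central involution to its conjugate.
-/
import Cfsg.Agent.ThSect.Fixed

set_option autoImplicit false
set_option linter.style.haveILetI false
set_option linter.constructorNameAsVariable false

namespace CfsgLib.ThSect

open Cfsg CfsgLib.Golay CfsgLib.Leech CfsgLib.Monster CfsgLib.LeechFix

attribute [local irreducible] shortVecs halfTable quarterTable codeFinset

variable {G : Type*} [Group G] [Finite G] {z s : G} (D : Data z)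

/-- Elements of odd prime order with the same image are conjugate. -/
theorem conj_same_image {r : ℕ} (hr : r.Prime) (hr2 : r ≠ 2) {M : Subgroup G}
    {b b' : Subgroup.centralizer ({z} : Set G)} (hb : (b : G) ∈ M) (hb' : (b' : G) ∈ M)
    (hbo : orderOf (b : G) = r) (hbo' : orderOf (b' : G) = r) (h : D.π b' = D.π b) :
    ∃ l : G, l ∈ M ∧ l * z = z * l ∧ l * (b : G) * l⁻¹ = (b' : G) := by
  haveI : Fact r.Prime := ⟨hr⟩
  have hπo := orderOf_π D hr hr2 hbo
  set E : Subgroup (Subgroup.centralizer ({z} : Set G)) :=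
    M.subgroupOf _ ⊓ (Subgroup.zpowers (D.π b)).comap D.π with hE
  have hcard : ¬ r ^ 2 ∣ Nat.card E := by
    intro hd
    have := hd.trans (card_dvd_of_image D E (I := Subgroup.zpowers (D.π b)) fun x hx => hx.2)
    rw [Nat.card_zpowers, hπo, pow_two] at this
    have h2 := Nat.dvd_of_mul_dvd_mul_right hr.pos this
    exact hr2 ((Nat.prime_dvd_prime_iff_eq hr Nat.prime_two).1 (hr.dvd_of_dvd_pow h2))
  have hbE : b ∈ E := ⟨hb, Subgroup.mem_zpowers _⟩
  have hbE' : b' ∈ E := ⟨hb', by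
    show D.π b' ∈ Subgroup.zpowers (D.π b)
    rw [h]; exact Subgroup.mem_zpowers _⟩
  have ho : orderOf (⟨b, hbE⟩ : E) = r := by
    rw [← Subgroup.orderOf_coe, ← Subgroup.orderOf_coe]; exact hbo
  have ho' : orderOf (⟨b', hbE'⟩ : E) = r := by
    rw [← Subgroup.orderOf_coe, ← Subgroup.orderOf_coe]; exact hbo'
  obtain ⟨k, -, hk⟩ := PrimeNorm.exists_isConj_pow hcard ho ho'
  obtain ⟨e, he⟩ := isConj_iff.1 hk
  have he' : (e : Subgroup.centralizer ({z} : Set G)) * b ^ k *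
      (e : Subgroup.centralizer ({z} : Set G))⁻¹ = b' := congrArg Subtype.val he
  obtain ⟨j, hj⟩ := Subgroup.mem_zpowers_iff.1 (show D.π e ∈ Subgroup.zpowers (D.π b) from e.2.2)
  have hka : (b : G) ^ k = (b : G) := by
    have e1 := congrArg D.π he'
    rw [map_mul, map_mul, map_inv, map_pow, h, ← hj, ← zpow_natCast, ← zpow_add, ← zpow_neg,
      ← zpow_add, show j + (k : ℤ) + -j = (k : ℤ) by ring, zpow_natCast] at e1
    conv_rhs at e1 => rw [← pow_one (D.π b)]
    rw [pow_eq_pow_iff_modEq, hπo, ← hbo] at e1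
    conv_rhs => rw [← pow_one (b : G)]
    exact pow_eq_pow_iff_modEq.2 e1
  refine ⟨((e : Subgroup.centralizer ({z} : Set G)) : G), e.2.1,
    Subgroup.mem_centralizer_singleton_iff.1 (e : Subgroup.centralizer ({z} : Set G)).2, ?_⟩
  have e2 := congrArg Subtype.val he'
  simp only [Subgroup.coe_mul, Subgroup.coe_inv, SubmonoidClass.coe_pow, hka] at e2
  exact e2

theorem card_triCent_conj {g' y : G} (h1 : g' * z * g'⁻¹ = s) (h2 : g' * s * g'⁻¹ = z) :
    Nat.card (triCent z s (g' * y * g'⁻¹)) = Nat.card (triCent z s y) := by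
  have e : triCent z s (g' * y * g'⁻¹) = (triCent z s y).map (MulAut.conj g').toMonoidHom := by
    ext x
    rw [Subgroup.mem_map_equiv, MulAut.conj_symm_apply, mem_triCent, mem_triCent]
    have hconv : ∀ a : G, (g'⁻¹ * x * g' * a = a * (g'⁻¹ * x * g')) ↔
        (x * (g' * a * g'⁻¹) = g' * a * g'⁻¹ * x) := fun a => by
      constructor <;> intro h
      · calc x * (g' * a * g'⁻¹) = g' * (g'⁻¹ * x * g' * a) * g'⁻¹ := by group
          _ = g' * (a * (g'⁻¹ * x * g')) * g'⁻¹ := by rw [h]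
          _ = _ := by group
      · calc g'⁻¹ * x * g' * a = g'⁻¹ * (x * (g' * a * g'⁻¹)) * g' := by group
          _ = g'⁻¹ * (g' * a * g'⁻¹ * x) * g' := by rw [h]
          _ = _ := by group
    rw [hconv, hconv, hconv, h1, h2]
    exact ⟨fun ⟨a, b, c⟩ => ⟨b, a, c⟩, fun ⟨a, b, c⟩ => ⟨b, a, c⟩⟩
  rw [e, Subgroup.card_map_of_injective (MulAut.conj g').injective]

theorem exists_swap {b : Subgroup.centralizer ({z} : Set G)} (hb : orderOf (b : G) = 3)
    (hπ : D.π b = QuotientGroup.mk S.rho) (hs : s ∈ D.Q) (hsz : s ≠ z) (hconj : IsConj z s)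
    (hcs : D.cl s = cls (eightAt none : GolayPt → ℤ)) (hbs : (b : G) * s = s * (b : G))
    (hsmall : ¬ 27 ∣ Nat.card (triCent z s (b : G))) :
    ∃ x : G, x * (b : G) = (b : G) * x ∧ x * z * x⁻¹ = s := by
  obtain ⟨g, hg⟩ := isConj_iff.1 hconj
  have hn : sqNorm (eightAt none : GolayPt → ℤ) = 64 := sqNorm_eightAt none
  obtain ⟨hs1, -⟩ := ne_of_cls D hs hcs (Or.inr (Or.inr hn))
  -- an element exchanging the two involutions
  have ht := z_mem_conj D hs hsz hg
  have htz : g⁻¹ * z * g ≠ z := fun e => hsz (by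
    rw [← hg]
    calc g * z * g⁻¹ = g * (g⁻¹ * z * g) * g⁻¹ := by rw [e]
      _ = z := by group)
  have htconj : g⁻¹ * z * (g⁻¹)⁻¹ = g⁻¹ * z * g := by rw [inv_inv]
  obtain ⟨w, hw, hwn⟩ := norm_of_conj D ht htz htconj
  obtain ⟨k₀, hk₀⟩ := frame_transitive (v := w) (w := eightAt none) hwn hn
  obtain ⟨ht1, -⟩ := ne_of_cls D ht hw (Or.inr (Or.inr hwn))
  obtain ⟨c, -, hc⟩ := conj_of_cls D ht hs ht1 htz hw hcs (g := k₀) (by rw [hk₀])
  set g' := g * (c : G)⁻¹ with hg'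
  have hcz : (c : G)⁻¹ * z * (c : G) = z := by
    have h := z_comm (inv_mem c.2)
    rwa [inv_inv] at h
  have h1 : g' * z * g'⁻¹ = s := by
    rw [← hg]
    calc g' * z * g'⁻¹ = g * ((c : G)⁻¹ * z * (c : G)) * g⁻¹ := by rw [hg']; group
      _ = g * z * g⁻¹ := by rw [hcz]
  have h2 : g' * s * g'⁻¹ = z := by
    calc g' * s * g'⁻¹ = g * ((c : G)⁻¹ * ((c : G) * (g⁻¹ * z * g) * (c : G)⁻¹) * (c : G)) * g⁻¹ := by
          rw [hc, hg']; group
      _ = z := by group
  have hbz : (b : G) * z = z * (b : G) := Subgroup.mem_centralizer_singleton_iff.1 b.2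
  -- the image of the element is again of the chosen kind
  set y₁ := g' * (b : G) * g'⁻¹ with hy₁
  have hy₁L : y₁ ∈ pairCent z s := by
    refine mem_pairCent.2 ⟨?_, ?_⟩
    · calc y₁ * z = g' * (b : G) * g'⁻¹ * (g' * s * g'⁻¹) := by rw [h2]
        _ = g' * ((b : G) * s) * g'⁻¹ := by group
        _ = g' * (s * (b : G)) * g'⁻¹ := by rw [hbs]
        _ = (g' * s * g'⁻¹) * (g' * (b : G) * g'⁻¹) := by group
        _ = z * y₁ := by rw [h2]
    · calc y₁ * s = g' * (b : G) * g'⁻¹ * (g' * z * g'⁻¹) := by rw [h1]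
        _ = g' * ((b : G) * z) * g'⁻¹ := by group
        _ = g' * (z * (b : G)) * g'⁻¹ := by rw [hbz]
        _ = (g' * z * g'⁻¹) * (g' * (b : G) * g'⁻¹) := by group
        _ = s * y₁ := by rw [h1]
  have hy₁o : orderOf y₁ = 3 :=
    (SemiconjBy.orderOf_eq (a := g') (x := (b : G)) (y := y₁)
      (by rw [hy₁]; unfold SemiconjBy; group)).symm.trans hb
  let yC : Subgroup.centralizer ({z} : Set G) := ⟨y₁, pairCent_le hy₁L⟩
  obtain ⟨h, hh, hπy⟩ := exists_frame_conj D hs hsz hcs (y := yC) hy₁L hy₁o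
    (by show ¬ 27 ∣ Nat.card (triCent z s y₁); rw [hy₁, card_triCent_conj h1 h2]; exact hsmall)
  obtain ⟨c₂, hc₂s, hc₂⟩ := (image_fix_iff D hs hs1 hsz hcs h).2 hh
  have hc₂L : (c₂ : G) ∈ pairCent z s := mem_pairCent.2
    ⟨Subgroup.mem_centralizer_singleton_iff.1 c₂.2, mul_inv_eq_iff_eq_mul.1 hc₂s⟩
  have hbL : (b : G) ∈ pairCent z s := mem_pairCent.2 ⟨hbz, hbs⟩
  obtain ⟨l, hlL, -, hl⟩ := conj_same_image D three_prime (by norm_num) (M := pairCent z s)
    (b := c₂ * b * c₂⁻¹) (b' := yC) (mul_mem (mul_mem hc₂L hbL) (inv_mem hc₂L)) hy₁L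
    ((SemiconjBy.orderOf_eq (a := (c₂ : G)) (x := (b : G)) (y := ((c₂ * b * c₂⁻¹ : Subgroup.centralizer ({z} : Set G)) : G))
      (by unfold SemiconjBy; simp [Subgroup.coe_mul])).symm.trans hb) hy₁o
    (by rw [hπy, map_mul, map_mul, map_inv, hc₂, hπ]; rfl)
  set m := l * (c₂ : G) with hm
  have hmL : m ∈ pairCent z s := mul_mem hlL hc₂L
  have hmb : m * (b : G) * m⁻¹ = y₁ := by
    rw [show y₁ = (yC : G) from rfl, ← hl, hm, Subgroup.coe_mul, Subgroup.coe_mul, Subgroup.coe_inv]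
    group
  refine ⟨m⁻¹ * g', mul_inv_eq_iff_eq_mul.1 ?_, ?_⟩
  · calc m⁻¹ * g' * (b : G) * (m⁻¹ * g')⁻¹ = m⁻¹ * y₁ * m := by rw [hy₁]; group
      _ = (b : G) := by rw [← hmb]; group
  · obtain ⟨-, hms⟩ := mem_pairCent.1 hmL
    calc m⁻¹ * g' * z * (m⁻¹ * g')⁻¹ = m⁻¹ * (g' * z * g'⁻¹) * m := by group
      _ = m⁻¹ * (s * m) := by rw [h1]; group
      _ = s := by rw [← hms]; group

end CfsgLib.ThSect
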